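import Groth.Agent.LimLib.Smooth
import Groth.Agent.LimTop.Basic
import Mathlib.AlgebraicGeometry.Morphisms.UniversallyInjective
import Mathlib.AlgebraicGeometry.Morphisms.QuasiFinite
import Mathlib.AlgebraicGeometry.ZariskisMainTheorem

/-! Descent along limits: surjective, universally injective, mono, locally quasi-finite. -/

set_option backward.isDefEq.respectTransparency false
set_option backward.defeqAttrib.useBackward true

universe u

open CategoryTheory Limits AlgebraicGeometry Groth.Agent.LimLib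

namespace Groth.Agent.EGA43Lim

theorem descends_surjective : Descends.{u} @Surjective @LocallyOfFinitePresentation := by
  intro I _ _ D c hc hD hqc hqs i X₀ f₀ _ _ hQ X q f hf hP
  have : LocallyOfFinitePresentation f₀ := hQ
  have : Surjective f := hP
  have : QuasiCompact f₀ :=
    (quasiCompact_iff_compactSpace (f := f₀)).mpr inferInstance |> fun h => h
  obtain ⟨j, φ, hj⟩ := LimTop.exists_subset hc (fun _ _ => Set.univ)
    (fun j φ => Set.range (pullback.snd f₀ (D.map φ)))
    (fun j φ => LimTop.isProConstructible_of_isLocallyConstructible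
      (Topology.IsConstructible.univ.isLocallyConstructible))
    (fun j φ => LimTop.isIndConstructible_of_isLocallyConstructible (by
      have : QuasiCompact (pullback.snd f₀ (D.map φ)) := MorphismProperty.pullback_snd _ _ inferInstance
      have : LocallyOfFinitePresentation (pullback.snd f₀ (D.map φ)) :=
        MorphismProperty.pullback_snd _ _ inferInstance
      rw [← Set.image_univ]
      exact (pullback.snd f₀ (D.map φ)).isLocallyConstructible_image
        Topology.IsConstructible.univ.isLocallyConstructible))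
    (fun _ _ _ _ _ _ => trivial)
    (fun j k ψ φ x hx => by
      rw [Scheme.Pullback.range_snd] at hx ⊢
      simpa [LimTop.map_comp_apply] using hx)
    (fun s _ => by
      refine ⟨i, 𝟙 i, ?_⟩
      obtain ⟨x, rfl⟩ := Scheme.Hom.surjective f s
      rw [Scheme.Pullback.range_snd, Set.mem_preimage, LimTop.map_id_apply]
      exact ⟨q x, (by rw [← Scheme.Hom.comp_apply, hf.w, Scheme.Hom.comp_apply]; rfl)⟩)
  refine ⟨j, φ, ⟨fun y => ?_⟩⟩
  exact hj (Set.mem_univ y)

theorem descends_universallyInjective :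
    Descends.{u} @UniversallyInjective @LocallyOfFiniteType := by
  rw [universallyInjective_eq_diagonal]
  exact descends_surjective.diagonal fun f h => by
    have : LocallyOfFiniteType f := h
    exact locallyOfFinitePresentation_diagonal f

theorem descends_mono :
    Descends.{u} (MorphismProperty.monomorphisms Scheme.{u}) @LocallyOfFiniteType := by
  have h : (MorphismProperty.monomorphisms Scheme.{u}) =
      (MorphismProperty.isomorphisms Scheme.{u}).diagonal := by
    ext X Y f
    exact (pullback.isIso_diagonal_iff f).symm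
  rw [h]
  intro I _ _ D c hc hD hqc hqs i X₀ f₀ h₁ h₂ hQ X q f hf hP
  exact Descends.diagonal (P := MorphismProperty.isomorphisms Scheme.{u}) (Q := @LocallyOfFiniteType)
    descends_isIso (fun f h => by
      have : LocallyOfFiniteType f := h
      exact locallyOfFinitePresentation_diagonal f) D c hc hD hqc hqs i X₀ f₀ h₁ h₂ hQ X q f hf hP

theorem descends_locallyQuasiFinite :
    Descends.{u} @LocallyQuasiFinite @LocallyOfFiniteType := by
  intro I _ _ D c hc hD hqc hqs i X₀ f₀ _ _ hQ X q f hf hP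
  have : LocallyOfFiniteType f₀ := hQ
  have : LocallyQuasiFinite f := hP
  have : QuasiCompact f₀ :=
    (quasiCompact_iff_compactSpace (f := f₀)).mpr inferInstance |> fun h => h
  have : QuasiCompact f := MorphismProperty.of_isPullback hf inferInstance
  have hU : ∀ x : X, f₀.QuasiFiniteAt (q x) := by
    intro x
    have hfin : (f₀ ⁻¹' {f₀ (q x)}).Finite := by
      refine ((f.finite_preimage_singleton (f x)).image q).subset fun x₀ hx₀ => ?_
      obtain ⟨x', h₁, h₂⟩ := Scheme.Pullback.exists_preimage_pullback (f := f₀) (g := c.π.app i) x₀ (f x)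
        (by rw [Set.mem_preimage, Set.mem_singleton_iff] at hx₀
            rw [hx₀, ← Scheme.Hom.comp_apply, hf.w, Scheme.Hom.comp_apply]; rfl)
      refine ⟨hf.isoPullback.inv x', ?_, ?_⟩
      · rw [Set.mem_preimage, Set.mem_singleton_iff, ← Scheme.Hom.comp_apply, hf.isoPullback_inv_snd]
        exact h₂
      · rw [← Scheme.Hom.comp_apply, hf.isoPullback_inv_fst]
        exact h₁
    rw [Scheme.Hom.quasiFiniteAt_iff_isOpen_singleton_asFiber]
    have : Finite (f₀.fiber (f₀ (q x))) := by
      have := hfin.to_subtype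
      exact Finite.of_equiv _ (f₀.fiberHomeo (f₀ (q x))).toEquiv.symm
    exact isOpen_discrete _
  have hX : (bcCone hf).π.app (Over.mk (𝟙 i)) ⁻¹ᵁ
      (pullback.fst f₀ (D.map (𝟙 i)) ⁻¹ᵁ f₀.quasiFiniteLocus) = ⊤ := by
    rw [← Scheme.Hom.comp_preimage]
    refine top_le_iff.mp fun x _ => ?_
    show f₀.QuasiFiniteAt _
    have e : (bcCone hf).π.app (Over.mk (𝟙 i)) ≫ pullback.fst f₀ (D.map (𝟙 i)) = q := by
      simp
    erw [e]
    exact hU x
  obtain ⟨j, a, ha⟩ := exists_map_eq_top _ _ (isLimitBcCone hc hf) (i := Over.mk (𝟙 i))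
    (pullback.fst f₀ (D.map (𝟙 i)) ⁻¹ᵁ f₀.quasiFiniteLocus) hX
  refine ⟨j.left, j.hom, ?_⟩
  have htop : pullback.fst f₀ (D.map j.hom) ⁻¹ᵁ f₀.quasiFiniteLocus = ⊤ := by
    rw [← ha, ← Scheme.Hom.comp_preimage]
    congr 1
    simp
  let U := f₀.quasiFiniteLocus
  have : LocallyQuasiFinite (U.ι ≫ f₀) := by
    rw [← Scheme.Hom.quasiFiniteLocus_eq_top_iff]
    refine top_le_iff.mp fun x _ => ?_
    show (U.ι ≫ f₀).QuasiFiniteAt x
    rw [Scheme.Hom.quasiFiniteAt_comp_iff_of_isOpenImmersion]
    exact x.2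
  let g : pullback f₀ (D.map j.hom) ⟶ (U : Scheme.{u}) :=
    IsOpenImmersion.lift U.ι (pullback.fst f₀ (D.map j.hom)) (by
      rintro _ ⟨x, rfl⟩
      simpa [U] using htop.ge (Set.mem_univ x))
  have hg : IsPullback g (𝟙 _) U.ι (pullback.fst f₀ (D.map j.hom)) :=
    IsOpenImmersion.isPullback g (𝟙 _) U.ι _ (by simp [g])
      (by simp [U, htop, Scheme.Hom.opensRange_of_isIso])
  have := hg.paste_vert (IsPullback.of_hasPullback f₀ (D.map j.hom))
  rw [Category.id_comp] at this
  exact MorphismProperty.of_isPullback this inferInstance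

/-- Stage form used for S2579--S2590: everything of finite presentation over a qcqs stage. -/
theorem exists_stage_fp {I : Type u} [SmallCategory I] [IsCofiltered I]
    {D : I ⥤ Scheme.{u}} {c : Cone D} (hc : IsLimit c)
    [∀ (i j : I) (f : i ⟶ j), IsAffineHom (D.map f)] {i₀ : I} [CompactSpace (D.obj i₀)]
    [QuasiSeparatedSpace (D.obj i₀)] {X₀ Y₀ : Scheme.{u}} {f₀ : X₀ ⟶ Y₀} {g₀ : Y₀ ⟶ D.obj i₀}
    [LocallyOfFinitePresentation g₀] [QuasiCompact g₀] [QuasiSeparated g₀]
    [LocallyOfFinitePresentation (f₀ ≫ g₀)] [QuasiCompact (f₀ ≫ g₀)] [QuasiSeparated (f₀ ≫ g₀)]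
    {X Y : Scheme.{u}} {f : X ⟶ Y} {g : Y ⟶ c.pt} {qY : Y ⟶ Y₀} {qX : X ⟶ X₀}
    (hY : IsPullback qY g g₀ (c.π.app i₀)) (hX : IsPullback qX f f₀ qY)
    {P Q : MorphismProperty Scheme.{u}} [P.RespectsIso] [Q.IsStableUnderBaseChange]
    (h : Descends P Q)
    (hQ : ∀ {A B : Scheme.{u}} (a : A ⟶ B), LocallyOfFinitePresentation a → Q a) (hP : P f) :
    ∃ (i : I) (φ : i ⟶ i₀) (Xi Yi : Scheme.{u}) (fi : Xi ⟶ Yi) (gi : Yi ⟶ D.obj i)
      (pY : Yi ⟶ Y₀) (pX : Xi ⟶ X₀),
      IsPullback pY gi g₀ (D.map φ) ∧ IsPullback pX fi f₀ pY ∧ P fi := by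
  have : CompactSpace Y₀ := QuasiCompact.compactSpace_of_compactSpace g₀
  have : QuasiSeparatedSpace Y₀ := quasiSeparatedSpace_of_quasiSeparated g₀
  have : CompactSpace X₀ := QuasiCompact.compactSpace_of_compactSpace (f₀ ≫ g₀)
  have : QuasiSeparatedSpace X₀ := quasiSeparatedSpace_of_quasiSeparated (f₀ ≫ g₀)
  have : LocallyOfFinitePresentation f₀ :=
    MorphismProperty.of_postcomp (W := @LocallyOfFinitePresentation) (W' := @LocallyOfFiniteType) f₀ g₀
      (inferInstanceAs (LocallyOfFiniteType g₀)) inferInstance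
  exact h.exists_stage hc f₀ hY hX (hQ f₀ this) hP

end Groth.Agent.EGA43Lim
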